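import Groth.Agent.Lib.Helper22.ColimCoh.Sections
import Groth.Agent.Lib.Helper18.FunctorialInjective
import Groth.Agent.Lib.Helper25.DeltaFEff

/-!
# Cohomology commutes with filtered colimits (Stacks 0739)

Let `B`, `Cov` be a class of objects of a site and a class of finite covering families as in
Stacks 0739. Then for `U ∈ B` the functors `H^p(U, -)` commute with filtered colimits of abelian
sheaves. The proof is by dimension shifting along a functorial embedding into injectives, the
colimit of injectives being acyclic on `B` by Cartan's criterion.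
-/

set_option autoImplicit false
set_option linter.unusedSectionVars false

universe u

open CategoryTheory CategoryTheory.Limits Opposite Abelian

namespace Groth.Agent.Lib.Helper22.ColimCoh

open Groth.Agent.Lib.Helper22.Cech Groth.Agent.Lib.Helper22.Cech.Site
open Groth.Agent.Lib.Helper25.DeltaFEff

variable {C : Type u} [SmallCategory C] {J : GrothendieckTopology C}

section ExtOps

variable (U : C) (n : ℕ)

/-- Push-forward on `Ext(ℤ_U, -)`. -/
noncomputable def push {G G' : Sheaf J AddCommGrpCat.{u}} (φ : G ⟶ G') :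
    Ext (CohCx.freeSheaf J U) G n →+ Ext (CohCx.freeSheaf J U) G' n :=
  (Ext.mk₀ φ).postcomp (CohCx.freeSheaf J U) (add_zero n)

lemma push_apply {G G' : Sheaf J AddCommGrpCat.{u}} (φ : G ⟶ G')
    (x : Ext (CohCx.freeSheaf J U) G n) : push U n φ x = x.comp (Ext.mk₀ φ) (add_zero n) := rfl

lemma push_comp {G G' G'' : Sheaf J AddCommGrpCat.{u}} (φ : G ⟶ G') (ψ : G' ⟶ G'')
    (x : Ext (CohCx.freeSheaf J U) G n) : push U n (φ ≫ ψ) x = push U n ψ (push U n φ x) := by
  rw [push_apply, push_apply, push_apply, ← Ext.mk₀_comp_mk₀,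
    Ext.comp_assoc x (Ext.mk₀ φ) (Ext.mk₀ ψ) (add_zero n) (add_zero 0) (by omega)]

/-- The connecting map on `Ext(ℤ_U, -)`. -/
noncomputable def dl {S : ShortComplex (Sheaf J AddCommGrpCat.{u})} (hS : S.ShortExact) :
    Ext (CohCx.freeSheaf J U) S.X₃ n →+ Ext (CohCx.freeSheaf J U) S.X₁ (n + 1) :=
  hS.extClass.postcomp (CohCx.freeSheaf J U) rfl

lemma dl_apply {S : ShortComplex (Sheaf J AddCommGrpCat.{u})} (hS : S.ShortExact)
    (x : Ext (CohCx.freeSheaf J U) S.X₃ n) : dl U n hS x = x.comp hS.extClass rfl := rfl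

lemma dl_natural {S S' : ShortComplex (Sheaf J AddCommGrpCat.{u})} (hS : S.ShortExact)
    (hS' : S'.ShortExact) (φ : S ⟶ S') (x : Ext (CohCx.freeSheaf J U) S.X₃ n) :
    push U (n + 1) φ.τ₁ (dl U n hS x) = dl U n hS' (push U n φ.τ₃ x) := by
  rw [push_apply, dl_apply, dl_apply, push_apply,
    Ext.comp_assoc x hS.extClass (Ext.mk₀ φ.τ₁) rfl (add_zero 1) (by omega),
    ShortComplex.ShortExact.extClass_naturality hS hS' φ,
    Ext.comp_assoc x (Ext.mk₀ φ.τ₃) hS'.extClass (add_zero n) (zero_add 1) (by omega)]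

lemma dl_push_g {S : ShortComplex (Sheaf J AddCommGrpCat.{u})} (hS : S.ShortExact)
    (x : Ext (CohCx.freeSheaf J U) S.X₂ n) : dl U n hS (push U n S.g x) = 0 := by
  rw [push_apply, dl_apply,
    Ext.comp_assoc x (Ext.mk₀ S.g) hS.extClass (add_zero n) (zero_add 1) (by omega),
    hS.comp_extClass, Ext.comp_zero]

lemma exists_of_push_f_eq_zero {S : ShortComplex (Sheaf J AddCommGrpCat.{u})} (hS : S.ShortExact)
    (x : Ext (CohCx.freeSheaf J U) S.X₁ (n + 1)) (hx : push U (n + 1) S.f x = 0) :
    ∃ x₃, dl U n hS x₃ = x :=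
  Ext.covariant_sequence_exact₁ (CohCx.freeSheaf J U) hS x hx rfl

lemma exists_of_dl_eq_zero {S : ShortComplex (Sheaf J AddCommGrpCat.{u})} (hS : S.ShortExact)
    (x : Ext (CohCx.freeSheaf J U) S.X₃ n) (hx : dl U n hS x = 0) :
    ∃ x₂, push U n S.g x₂ = x :=
  Ext.covariant_sequence_exact₃ (CohCx.freeSheaf J U) hS x rfl hx

/-- `Ext⁰(ℤ_U, G) ≃ G(U)`. -/
noncomputable def sec (G : Sheaf J AddCommGrpCat.{u}) :
    Ext (CohCx.freeSheaf J U) G 0 ≃+ G.obj.obj (op U) :=
  (Ext.addEquiv₀ (X := CohCx.freeSheaf J U) (Y := G)).trans (CohFree.homEquivSect J U G)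

lemma sec_push {G G' : Sheaf J AddCommGrpCat.{u}} (φ : G ⟶ G')
    (x : Ext (CohCx.freeSheaf J U) G 0) :
    sec U G' (push U 0 φ x) = φ.hom.app (op U) (sec U G x) := by
  have h1 : push U 0 φ x = Ext.mk₀ (Ext.addEquiv₀ x ≫ φ) := by
    rw [push_apply, ← Ext.mk₀_comp_mk₀, Ext.mk₀_addEquiv₀_apply]
  have h2 : Ext.addEquiv₀ (push U 0 φ x) = Ext.addEquiv₀ x ≫ φ := by
    rw [h1, ← Ext.addEquiv₀_symm_apply, AddEquiv.apply_symm_apply]
  change CohFree.homEquivSect J U G' (Ext.addEquiv₀ (push U 0 φ x)) = _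
  rw [h2]
  exact homEquivSect_naturality_right U (Ext.addEquiv₀ x) φ

end ExtOps

/-! ### The functorial embedding into injectives -/

section Emb

variable {I : Type u} [SmallCategory I]

/-- A functorial injective embedding on abelian sheaves. -/
noncomputable def Jf : Sheaf J AddCommGrpCat.{u} ⥤ Sheaf J AddCommGrpCat.{u} :=
  (Groth.Agent.Lib.Helper18.FunctorialInjective.exists_functorial_injective_embedding.{u}
    (Sheaf J AddCommGrpCat.{u})).choose

/-- The natural embedding. -/
noncomputable def jf : 𝟭 (Sheaf J AddCommGrpCat.{u}) ⟶ Jf (J := J) :=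
  (Groth.Agent.Lib.Helper18.FunctorialInjective.exists_functorial_injective_embedding.{u}
    (Sheaf J AddCommGrpCat.{u})).choose_spec.choose

instance (X : Sheaf J AddCommGrpCat.{u}) : Injective ((Jf (J := J)).obj X) :=
  ((Groth.Agent.Lib.Helper18.FunctorialInjective.exists_functorial_injective_embedding.{u}
    (Sheaf J AddCommGrpCat.{u})).choose_spec.choose_spec X).1

instance (X : Sheaf J AddCommGrpCat.{u}) : Mono ((jf (J := J)).app X) :=
  ((Groth.Agent.Lib.Helper18.FunctorialInjective.exists_functorial_injective_embedding.{u}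
    (Sheaf J AddCommGrpCat.{u})).choose_spec.choose_spec X).2

variable (F : I ⥤ Sheaf J AddCommGrpCat.{u})

/-- The embedding of a diagram into a diagram of injectives. -/
noncomputable def α : F ⟶ F ⋙ Jf (J := J) where
  app i := jf.app (F.obj i)
  naturality i j g := jf.naturality (F.map g)

instance (i : I) : Mono ((α F).app i) := inferInstanceAs (Mono (jf.app (F.obj i)))

instance : Mono (α F) := NatTrans.mono_of_mono_app _

/-- The quotient diagram. -/
noncomputable abbrev Qd : I ⥤ Sheaf J AddCommGrpCat.{u} := cokernel (α F)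

/-- The projection to the quotient diagram. -/
noncomputable abbrev πd : F ⋙ Jf (J := J) ⟶ Qd F := cokernel.π (α F)

/-- The short exact sequence of diagrams `0 ⟶ F ⟶ F' ⟶ Q ⟶ 0`. -/
noncomputable abbrev SI : ShortComplex (I ⥤ Sheaf J AddCommGrpCat.{u}) :=
  ShortComplex.mk (α F) (πd F) (cokernel.condition (α F))

lemma SI_shortExact : (SI F).ShortExact := sesOf_shortExact (α F)

lemma α_πd_app (i : I) : (α F).app i ≫ (πd F).app i = 0 := by
  rw [← NatTrans.comp_app, cokernel.condition]
  rfl

/-- The stage-`i` short exact sequence. -/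
noncomputable abbrev Sst (i : I) : ShortComplex (Sheaf J AddCommGrpCat.{u}) :=
  ShortComplex.mk ((α F).app i) ((πd F).app i) (α_πd_app F i)

lemma Sst_shortExact (i : I) : (Sst F i).ShortExact :=
  (SI_shortExact F).map_of_exact ((evaluation I (Sheaf J AddCommGrpCat.{u})).obj i)

instance (i : I) : Injective (Sst F i).X₂ :=
  inferInstanceAs (Injective ((Jf (J := J)).obj (F.obj i)))

/-- Transition maps between the stages. -/
noncomputable def Str {i j : I} (g : i ⟶ j) : Sst F i ⟶ Sst F j where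
  τ₁ := F.map g
  τ₂ := (F ⋙ Jf (J := J)).map g
  τ₃ := (Qd F).map g
  comm₁₂ := (α F).naturality g
  comm₂₃ := (πd F).naturality g

variable [IsFiltered I]

lemma colimMap_α_πd : colimMap (α F) ≫ colimMap (πd F) = 0 := by
  have h := (SI F).zero
  have h2 := congrArg (fun φ => (colim : (I ⥤ Sheaf J AddCommGrpCat.{u}) ⥤ _).map φ) h
  simp only [Functor.map_comp, Functor.map_zero] at h2
  exact h2

/-- The colimit short exact sequence. -/
noncomputable abbrev Sinf : ShortComplex (Sheaf J AddCommGrpCat.{u}) :=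
  ShortComplex.mk (colimMap (α F)) (colimMap (πd F)) (colimMap_α_πd F)

lemma Sinf_shortExact : (Sinf F).ShortExact :=
  (SI_shortExact F).map_of_exact
    (colim : (I ⥤ Sheaf J AddCommGrpCat.{u}) ⥤ Sheaf J AddCommGrpCat.{u})

/-- The maps from the stages to the colimit. -/
noncomputable def Sto (i : I) : Sst F i ⟶ Sinf F where
  τ₁ := colimit.ι F i
  τ₂ := colimit.ι (F ⋙ Jf (J := J)) i
  τ₃ := colimit.ι (Qd F) i
  comm₁₂ := ι_colimMap (α F) i
  comm₂₃ := ι_colimMap (πd F) i

end Emb

/-! ### The induction -/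

section Induction

variable [HasPullbacks C] {I : Type u} [SmallCategory I] [IsFiltered I]
  {B : Set C} {Cov : ∀ (U : C) (ι : Type u), (ι → Over U) → Prop}
  (h1 : ∀ (U : C) (ι : Type u) (Y : ι → Over U), Cov U ι Y → U ∈ B ∧
      Sieve.ofArrows (fun i => (Y i).left) (fun i => (Y i).hom) ∈ J U ∧
      ∀ (p : ℕ) (a : Fin (p + 1) → ι), (∏ᶜ fun k => Y (a k)).left ∈ B)
  (h2 : ∀ U ∈ B, ∀ T ∈ J U, ∃ (ι : Type u) (Y : ι → Over U), Cov U ι Y ∧
      ∀ i, T.arrows (Y i).hom)
  (hfin : ∀ (U : C) (ι : Type u) (Y : ι → Over U), Cov U ι Y → Finite ι)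

variable (I B) in
/-- The statement that `H^n(U, -)`, `U ∈ B`, commutes with `I`-indexed colimits, elementwise. -/
structure Comm (n : ℕ) : Prop where
  rep : ∀ (F : I ⥤ Sheaf J AddCommGrpCat.{u}) (U : C), U ∈ B →
    ∀ x : Ext (CohCx.freeSheaf J U) (colimit F) n,
      ∃ (i : I) (y : Ext (CohCx.freeSheaf J U) (F.obj i) n), push U n (colimit.ι F i) y = x
  zero : ∀ (F : I ⥤ Sheaf J AddCommGrpCat.{u}) (U : C), U ∈ B →
    ∀ (i : I) (y : Ext (CohCx.freeSheaf J U) (F.obj i) n), push U n (colimit.ι F i) y = 0 →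
      ∃ (j : I) (g : i ⟶ j), push U n (F.map g) y = 0

include h1 h2 hfin in
lemma comm_zero : Comm (J := J) I B 0 where
  rep F U hU x := by
    obtain ⟨i, t, ht⟩ := sec_rep h1 h2 hfin (colimit.cocone F) (colimit.isColimit F) U hU
      (sec U (colimit F) x)
    refine ⟨i, (sec U (F.obj i)).symm t, ?_⟩
    apply (sec U (colimit F)).injective
    rw [sec_push, AddEquiv.apply_symm_apply]
    exact ht
  zero F U hU i y hy := by
    have h0 : (colimit.ι F i).hom.app (op U) (sec U (F.obj i) y) = 0 := by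
      rw [← sec_push, hy, map_zero]
    obtain ⟨j, g, hg⟩ := sec_zero h1 h2 hfin (colimit.cocone F) (colimit.isColimit F) U hU i
      (sec U (F.obj i) y) h0
    refine ⟨j, g, ?_⟩
    apply (sec U (F.obj j)).injective
    rw [sec_push, map_zero]
    exact hg

include h1 h2 hfin in
/-- The colimit of the injective diagram is acyclic on `B`. -/
lemma ext_colimit_injective_eq_zero (F : I ⥤ Sheaf J AddCommGrpCat.{u}) (U : C) (hU : U ∈ B)
    (n : ℕ) (x : Ext (CohCx.freeSheaf J U) (colimit (F ⋙ Jf (J := J))) (n + 1)) : x = 0 := by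
  have hacyc : CovAcyclic Cov (colimit (F ⋙ Jf (J := J))) :=
    covAcyclic_colimit h1 h2 hfin (colimit.cocone (F ⋙ Jf (J := J))) (colimit.isColimit _)
      (fun i U ι Y _ p => acyc_of_injective_sheaf ((Jf (J := J)).obj (F.obj i)) Y p)
  exact ext_succ_eq_zero_of_class (CovAcyclic Cov) B
    (fun G hG V hV => surjective_of_covAcyclic h1 h2 (injSC G) (injSC_shortExact G) hG V hV)
    (fun _ hG => hG.quot h1 h2) n _ hacyc U hU x

include h1 h2 hfin in
lemma comm_succ (n : ℕ) (ih : Comm (J := J) I B n) : Comm (J := J) I B (n + 1) where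
  rep F U hU x := by
    have hz : push U (n + 1) (colimMap (α F)) x = 0 :=
      ext_colimit_injective_eq_zero h1 h2 hfin F U hU n _
    obtain ⟨x₃, hx₃⟩ : ∃ x₃ : Ext (CohCx.freeSheaf J U) (colimit (Qd F)) n,
        dl U n (Sinf_shortExact F) x₃ = x :=
      exists_of_push_f_eq_zero U n (Sinf_shortExact F) x hz
    obtain ⟨i, y₃, hy₃⟩ := ih.rep (Qd F) U hU x₃
    refine ⟨i, dl U n (Sst_shortExact F i) y₃, ?_⟩
    have hnat := dl_natural U n (Sst_shortExact F i) (Sinf_shortExact F) (Sto F i) y₃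
    change push U (n + 1) (colimit.ι F i) (dl U n (Sst_shortExact F i) y₃) =
      dl U n (Sinf_shortExact F) (push U n (colimit.ι (Qd F) i) y₃) at hnat
    rw [hnat, hy₃, hx₃]
  zero F U hU i y hy := by
    -- `y = δ q`
    have hz : push U (n + 1) ((α F).app i) y = 0 := Ext.eq_zero_of_injective _
    obtain ⟨q, hq⟩ : ∃ q : Ext (CohCx.freeSheaf J U) ((Qd F).obj i) n,
        dl U n (Sst_shortExact F i) q = y :=
      exists_of_push_f_eq_zero U n (Sst_shortExact F i) y hz
    -- the image of `q` in the colimit comes from `r`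
    have hnat := dl_natural U n (Sst_shortExact F i) (Sinf_shortExact F) (Sto F i) q
    change push U (n + 1) (colimit.ι F i) (dl U n (Sst_shortExact F i) q) =
      dl U n (Sinf_shortExact F) (push U n (colimit.ι (Qd F) i) q) at hnat
    rw [hq, hy] at hnat
    obtain ⟨r, hr⟩ : ∃ r : Ext (CohCx.freeSheaf J U) (colimit (F ⋙ Jf (J := J))) n,
        push U n (colimMap (πd F)) r = push U n (colimit.ι (Qd F) i) q :=
      exists_of_dl_eq_zero U n (Sinf_shortExact F) _ hnat.symm
    obtain ⟨k, rk, hrk⟩ := ih.rep (F ⋙ Jf (J := J)) U hU r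
    -- a common stage
    let m := IsFiltered.max i k
    let a : i ⟶ m := IsFiltered.leftToMax i k
    let b : k ⟶ m := IsFiltered.rightToMax i k
    let q' : Ext (CohCx.freeSheaf J U) ((Qd F).obj m) n :=
      push U n ((Qd F).map a) q - push U n ((πd F).app m) (push U n ((F ⋙ Jf (J := J)).map b) rk)
    have hq' : push U n (colimit.ι (Qd F) m) q' = 0 := by
      have e1 : push U n (colimit.ι (Qd F) m) (push U n ((Qd F).map a) q) =
          push U n (colimit.ι (Qd F) i) q := by
        rw [← push_comp, colimit.w]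
      have e2 : push U n (colimit.ι (Qd F) m)
          (push U n ((πd F).app m) (push U n ((F ⋙ Jf (J := J)).map b) rk)) =
          push U n (colimMap (πd F)) r := by
        rw [← hrk, ← push_comp, ← push_comp, ← push_comp]
        congr 1
        have h3 : ((πd F).app m) ≫ colimit.ι (Qd F) m =
            colimit.ι (F ⋙ Jf (J := J)) m ≫ (colimMap (πd F)) := (ι_colimMap (πd F) m).symm
        rw [h3, ← Category.assoc, colimit.w]
      change push U n (colimit.ι (Qd F) m) (_ - _) = 0
      rw [map_sub, e1, e2, hr, sub_self]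
    obtain ⟨l, w, hw⟩ := ih.zero (Qd F) U hU m q' hq'
    refine ⟨l, a ≫ w, ?_⟩
    have hnat2 := dl_natural U n (Sst_shortExact F i) (Sst_shortExact F l) (Str F (a ≫ w)) q
    change push U (n + 1) (F.map (a ≫ w)) (dl U n (Sst_shortExact F i) q) =
      dl U n (Sst_shortExact F l) (push U n ((Qd F).map (a ≫ w)) q) at hnat2
    rw [← hq, hnat2]
    -- `q` pushed to stage `l` comes from the middle term
    have e3 : push U n ((Qd F).map (a ≫ w)) q =
        push U n ((πd F).app l) (push U n ((F ⋙ Jf (J := J)).map (b ≫ w)) rk) := by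
      have h4 : push U n ((Qd F).map w) q' = 0 := hw
      change push U n ((Qd F).map w) (_ - _) = 0 at h4
      rw [map_sub, sub_eq_zero, ← push_comp, ← (Qd F).map_comp] at h4
      rw [h4, ← push_comp, ← push_comp, ← push_comp]
      congr 1
      have h5 : ((πd F).app m) ≫ (Qd F).map w = (F ⋙ Jf (J := J)).map w ≫ ((πd F).app l) :=
        ((πd F).naturality w).symm
      rw [h5, (F ⋙ Jf (J := J)).map_comp, Category.assoc]
    rw [e3, dl_push_g]

include h1 h2 hfin in
theorem comm (n : ℕ) : Comm (J := J) I B n := by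
  induction n with
  | zero => exact comm_zero h1 h2 hfin
  | succ n ih => exact comm_succ h1 h2 hfin n ih

include h1 h2 hfin in
/-- **Cohomology on `B` commutes with filtered colimits.** -/
theorem preservesColimit (F : I ⥤ Sheaf J AddCommGrpCat.{u}) (U : C) (hU : U ∈ B) (p : ℕ) :
    PreservesColimit F ((Sheaf.cohomologyPresheafFunctor J p).flip.obj (op U)) := by
  let G : Sheaf J AddCommGrpCat.{u} ⥤ AddCommGrpCat.{u} :=
    (Sheaf.cohomologyPresheafFunctor J p).flip.obj (op U)
  have hP := comm (J := J) (I := I) h1 h2 hfin p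
  have : ReflectsColimit (F ⋙ G) (forget AddCommGrpCat.{u}) :=
    reflectsColimit_of_reflectsIsomorphisms _ _
  apply preservesColimit_of_preserves_colimit_cocone (colimit.isColimit F)
  apply isColimitOfReflects (forget AddCommGrpCat.{u})
  apply Types.FilteredColimit.isColimitOf'
  · intro x
    obtain ⟨i, y, hy⟩ := hP.rep F U hU x
    exact ⟨i, y, hy.symm⟩
  · intro i x y hxy
    let x' : Ext (CohCx.freeSheaf J U) (F.obj i) p := x
    let y' : Ext (CohCx.freeSheaf J U) (F.obj i) p := y
    have h0 : push U p (colimit.ι F i) (x' - y') = 0 := by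
      rw [map_sub, sub_eq_zero]
      exact hxy
    obtain ⟨j, g, hg⟩ := hP.zero F U hU i (x' - y') h0
    refine ⟨j, g, ?_⟩
    rw [map_sub, sub_eq_zero] at hg
    exact hg

end Induction

end Groth.Agent.Lib.Helper22.ColimCoh
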