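import Groth.Agent.Lib.Helper22.ColimCoh.Local

/-!
# Filtered colimits of abelian sheaves: sections over "quasi-compact" objects

Let `B`, `Cov` be a class of objects and a class of *finite* covering families as in
Stacks 0739. For `U ∈ B` sections of a filtered colimit over `U` are the filtered colimit of the
sections, and the colimit of Čech-acyclic sheaves is Čech-acyclic.
-/

set_option autoImplicit false
set_option linter.unusedSectionVars false

universe u

open CategoryTheory CategoryTheory.Limits Opposite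

namespace Groth.Agent.Lib.Helper22.ColimCoh

open Groth.Agent.Lib.Helper22.Cech Groth.Agent.Lib.Helper22.Cech.Site

variable {C : Type u} [SmallCategory C] [HasPullbacks C] {J : GrothendieckTopology C}
  {I : Type u} [SmallCategory I] [IsFiltered I] {F : I ⥤ Sheaf J AddCommGrpCat.{u}}

/-- The cocone injections, with codomain syntactically the cocone point. -/
abbrev inc (c : Cocone F) (i : I) : F.obj i ⟶ c.pt := c.ι.app i

lemma inc_w (c : Cocone F) {i j : I} (g : i ⟶ j) : F.map g ≫ inc c j = inc c i := c.w g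

section cochains

variable {U : C} {ι : Type u} (Y : ι → Over U)

/-- The map on Čech cochains induced by a morphism of sheaves. -/
noncomputable abbrev cm {G G' : Sheaf J AddCommGrpCat.{u}} (φ : G ⟶ G') (n : ℕ) :
    (CK Y (rP G.obj)).X n ⟶ (CK Y (rP G'.obj)).X n :=
  cmap Y (rMap (U := U) φ.hom) n

lemma proj_cm {G G' : Sheaf J AddCommGrpCat.{u}} (φ : G ⟶ G') (n : ℕ) (σ : Fin (n + 1) → ι)
    (x : (CK Y (rP G.obj)).X n) :
    proj Y (rP G'.obj) n σ (cm Y φ n x) =
      φ.hom.app (op (Uσ Y σ).left) (proj Y (rP G.obj) n σ x) :=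
  proj_map Y (rP G.obj) (rMap (U := U) φ.hom) n σ x

lemma cm_comp {G G' G'' : Sheaf J AddCommGrpCat.{u}} (φ : G ⟶ G') (ψ : G' ⟶ G'') (n : ℕ)
    (x : (CK Y (rP G.obj)).X n) : cm Y (φ ≫ ψ) n x = cm Y ψ n (cm Y φ n x) := by
  apply ext_proj
  intro σ
  rw [proj_cm, proj_cm, proj_cm]
  rfl

lemma cm_d {G G' : Sheaf J AddCommGrpCat.{u}} (φ : G ⟶ G') (n : ℕ)
    (x : (CK Y (rP G.obj)).X n) :
    cm Y φ (n + 1) ((CK Y (rP G.obj)).d n (n + 1) x) =
      (CK Y (rP G'.obj)).d n (n + 1) (cm Y φ n x) :=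
  map_d Y (rP G.obj) (rMap (U := U) φ.hom) n x

variable (c : Cocone F) [Finite ι]

/-- A cochain of the colimit all of whose components come from finite stages comes from a finite
stage. -/
lemma cochain_rep (n : ℕ) (a : (CK Y (rP c.pt.obj)).X n)
    (h : ∀ σ : Fin (n + 1) → ι, ∃ (i : I) (y : (F.obj i).obj.obj (op (Uσ Y σ).left)),
      (inc c i).hom.app (op (Uσ Y σ).left) y = proj Y (rP c.pt.obj) n σ a) :
    ∃ (i : I) (b : (CK Y (rP (F.obj i).obj)).X n), cm Y (inc c i) n b = a := by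
  obtain ⟨i, hi⟩ := exists_common_obj (I := I) (Fin (n + 1) → ι)
    (fun σ i => ∃ y : (F.obj i).obj.obj (op (Uσ Y σ).left),
      (inc c i).hom.app (op (Uσ Y σ).left) y = proj Y (rP c.pt.obj) n σ a)
    (fun σ j j' g hj => by
      obtain ⟨y, hy⟩ := hj
      refine ⟨(F.map g).hom.app (op (Uσ Y σ).left) y, ?_⟩
      rw [← hy, ← inc_w c g]
      rfl)
    (fun σ => by
      obtain ⟨i, y, hy⟩ := h σ
      exact ⟨i, y, hy⟩)
  choose y hy using hi
  let y' : ∀ σ : Fin (n + 1) → ι, (rP (F.obj i).obj).obj (op (Uσ Y σ)) := y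
  refine ⟨i, mk Y (rP (F.obj i).obj) y', ?_⟩
  apply ext_proj
  intro σ
  rw [proj_cm]
  have h2 : proj Y (rP (F.obj i).obj) n σ (mk Y (rP (F.obj i).obj) y') = y σ :=
    proj_mk Y (rP (F.obj i).obj) y' σ
  exact (congrArg (fun z => (inc c i).hom.app (op (Uσ Y σ).left) z) h2).trans (hy σ)

/-- A cochain at a finite stage dying in the colimit, all of whose components die at finite
stages, dies at a finite stage. -/
lemma cochain_zero (n : ℕ) (i : I) (b : (CK Y (rP (F.obj i).obj)).X n)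
    (h : ∀ σ : Fin (n + 1) → ι, ∃ (j : I) (g : i ⟶ j),
      (F.map g).hom.app (op (Uσ Y σ).left) (proj Y (rP (F.obj i).obj) n σ b) = 0) :
    ∃ (j : I) (g : i ⟶ j), cm Y (F.map g) n b = 0 := by
  obtain ⟨j, g, hg⟩ := exists_common (I := I) i (Fin (n + 1) → ι)
    (fun σ j g => (F.map g).hom.app (op (Uσ Y σ).left)
      (proj Y (rP (F.obj i).obj) n σ b) = 0)
    (fun σ j f j' g hj => by
      have h1 : (F.map (f ≫ g)).hom.app (op (Uσ Y σ).left)
          (proj Y (rP (F.obj i).obj) n σ b) =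
          (F.map g).hom.app (op (Uσ Y σ).left)
            ((F.map f).hom.app (op (Uσ Y σ).left)
              (proj Y (rP (F.obj i).obj) n σ b)) := by
        rw [F.map_comp]
        rfl
      rw [h1, hj, map_zero])
    (fun σ => h σ)
  refine ⟨j, g, ?_⟩
  apply ext_proj
  intro σ
  rw [proj_cm, map_zero]
  exact hg σ

end cochains

section Basis

variable {B : Set C} {Cov : ∀ (U : C) (ι : Type u), (ι → Over U) → Prop}
  (h1 : ∀ (U : C) (ι : Type u) (Y : ι → Over U), Cov U ι Y → U ∈ B ∧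
      Sieve.ofArrows (fun i => (Y i).left) (fun i => (Y i).hom) ∈ J U ∧
      ∀ (p : ℕ) (a : Fin (p + 1) → ι), (∏ᶜ fun k => Y (a k)).left ∈ B)
  (h2 : ∀ U ∈ B, ∀ T ∈ J U, ∃ (ι : Type u) (Y : ι → Over U), Cov U ι Y ∧
      ∀ i, T.arrows (Y i).hom)
  (hfin : ∀ (U : C) (ι : Type u) (Y : ι → Over U), Cov U ι Y → Finite ι)
  (c : Cocone F) (hc : IsColimit c)

include h1 h2 hfin hc in
/-- A section over `U ∈ B` of a finite stage dying in the colimit dies at a later stage. -/
lemma sec_zero (U : C) (hU : U ∈ B) (i : I) (t : (F.obj i).obj.obj (op U))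
    (ht : (inc c i).hom.app (op U) t = 0) :
    ∃ (j : I) (g : i ⟶ j), (F.map g).hom.app (op U) t = 0 := by
  obtain ⟨T, hT, hloc⟩ := local_zero c hc U i t ht
  obtain ⟨ι, Y, hCov, hYT⟩ := h2 U hU T hT
  have : Finite ι := hfin U ι Y hCov
  obtain ⟨j, g, hg⟩ := exists_common (I := I) i ι
    (fun k j g => (F.map g).hom.app (op (Y k).left) ((F.obj i).obj.map (Y k).hom.op t) = 0)
    (fun k j f j' g hj => by
      have h1 : (F.map (f ≫ g)).hom.app (op (Y k).left) ((F.obj i).obj.map (Y k).hom.op t) =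
          (F.map g).hom.app (op (Y k).left)
            ((F.map f).hom.app (op (Y k).left) ((F.obj i).obj.map (Y k).hom.op t)) := by
        rw [F.map_comp]
        rfl
      rw [h1, hj, map_zero])
    (fun k => hloc (Y k).hom (hYT k))
  refine ⟨j, g, ?_⟩
  have hS := (isSheaf_forget (F.obj j)).isSheafFor
    (Presieve.ofArrows (fun i => (Y i).left) (fun i => (Y i).hom)) (h1 U ι Y hCov).2.1
  have key : ∀ k, (F.obj j).obj.map (Y k).hom.op ((F.map g).hom.app (op U) t) =
      (F.obj j).obj.map (Y k).hom.op 0 := by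
    intro k
    rw [map_zero, ← hg k]
    exact (NatTrans.naturality_apply (F.map g).hom (Y k).hom.op t).symm
  refine hS.isSeparatedFor.ext fun V f hf => ?_
  obtain ⟨k⟩ := hf
  exact key k

include h1 h2 hfin hc in
/-- A section over `U ∈ B` of the colimit comes from a finite stage. -/
lemma sec_rep (U : C) (hU : U ∈ B) (s : c.pt.obj.obj (op U)) :
    ∃ (i : I) (t : (F.obj i).obj.obj (op U)), (inc c i).hom.app (op U) t = s := by
  obtain ⟨T, hT, hloc⟩ := local_rep c hc U s
  obtain ⟨ι, Y, hCov, hYT⟩ := h2 U hU T hT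
  have : Finite ι := hfin U ι Y hCov
  have hY := (h1 U ι Y hCov).2.1
  -- lift the restriction cochain to a finite stage
  obtain ⟨i, b, hb⟩ := cochain_rep Y c 0 (resCochain Y c.pt.obj s 0) (fun σ => by
    rw [proj_resCochain]
    have hmem : T.arrows (Uσ Y σ).hom := by
      have hw : (Pi.π (Y ∘ σ) 0).left ≫ (Y (σ 0)).hom = (Uσ Y σ).hom := Over.w (Pi.π (Y ∘ σ) 0)
      rw [← hw]
      exact T.downward_closed (hYT (σ 0)) _
    exact hloc _ hmem)
  -- its coboundary dies in the colimit, hence at a finite stage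
  have hdb : cm Y (inc c i) 1 ((CK Y (rP (F.obj i).obj)).d 0 1 b) = 0 := by
    rw [cm_d, hb, d_resCochain_zero]
  obtain ⟨j, g, hg⟩ := cochain_zero Y 1 i ((CK Y (rP (F.obj i).obj)).d 0 1 b) (fun σ => by
    apply sec_zero h1 h2 hfin c hc _ ((h1 U ι Y hCov).2.2 1 σ) i
    have := congrArg (proj Y (rP c.pt.obj) 1 σ) hdb
    rw [proj_cm, map_zero] at this
    exact this)
  -- glue
  have hcoc : (CK Y (rP (F.obj j).obj)).d 0 1 (cm Y (F.map g) 0 b) = 0 := by
    rw [← cm_d]
    exact hg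
  obtain ⟨t, ht⟩ := exists_section_of_cocycle Y (F.obj j) hY _ hcoc
  refine ⟨j, t, ?_⟩
  apply resCochain_zero_injective Y c.pt hY
  have h3 : resCochain Y c.pt.obj ((inc c j).hom.app (op U) t) 0 =
      cm Y (inc c j) 0 (resCochain Y (F.obj j).obj t 0) :=
    (cmap_resCochain Y (F.obj j).obj (inc c j).hom t 0).symm
  rw [h3, ht, ← cm_comp, inc_w c g, hb]

include h1 h2 hfin hc in
/-- A filtered colimit of `Cov`-Čech-acyclic sheaves is `Cov`-Čech-acyclic. -/
lemma covAcyclic_colimit (hF : ∀ i, CovAcyclic Cov (F.obj i)) : CovAcyclic Cov c.pt := by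
  intro U ι Y hCov p x hx
  have : Finite ι := hfin U ι Y hCov
  obtain ⟨i, b, hb⟩ := cochain_rep Y c (p + 1) x (fun σ =>
    sec_rep h1 h2 hfin c hc _ ((h1 U ι Y hCov).2.2 (p + 1) σ) _)
  have hdb : cm Y (inc c i) (p + 2) ((CK Y (rP (F.obj i).obj)).d (p + 1) (p + 2) b) = 0 := by
    rw [cm_d, hb, hx]
  obtain ⟨j, g, hg⟩ := cochain_zero Y (p + 2) i ((CK Y (rP (F.obj i).obj)).d (p + 1) (p + 2) b)
    (fun σ => by
      apply sec_zero h1 h2 hfin c hc _ ((h1 U ι Y hCov).2.2 (p + 2) σ) i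
      have := congrArg (proj Y (rP c.pt.obj) (p + 2) σ) hdb
      rw [proj_cm, map_zero] at this
      exact this)
  have hcoc : (CK Y (rP (F.obj j).obj)).d (p + 1) (p + 2) (cm Y (F.map g) (p + 1) b) = 0 := by
    rw [← cm_d]
    exact hg
  obtain ⟨w, hw⟩ := hF j U ι Y hCov p _ hcoc
  refine ⟨cm Y (inc c j) p w, ?_⟩
  rw [← cm_d, hw, ← cm_comp, inc_w c g, hb]

end Basis

end Groth.Agent.Lib.Helper22.ColimCoh
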