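import Groth.Agent.Lib.Helper22.ColimCoh.ExtInd

/-!
# Cohomology of compact opens commutes with filtered colimits on prespectral quasi-separated spaces
-/

set_option autoImplicit false
set_option linter.unusedSectionVars false

universe u

open CategoryTheory CategoryTheory.Limits Opposite TopologicalSpace

namespace Groth.Agent.Lib.Helper22.ColimCoh.Top

variable {X : TopCat.{u}}

/-- Compact opens. -/
def Bc (X : TopCat.{u}) : Set (Opens X) := {V | IsCompact (V : Set X)}

/-- Finite covers of compact opens by compact opens. -/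
def Covc (X : TopCat.{u}) (U : Opens X) (ι : Type u) (Y : ι → Over U) : Prop :=
  Finite ι ∧ IsCompact (U : Set X) ∧ (∀ i, IsCompact ((Y i).left : Set X)) ∧
    (U : Set X) ⊆ ⋃ i, ((Y i).left : Set X)

lemma prod_left_eq {U : Opens X} {ι : Type u} (Y : ι → Over U) {p : ℕ} (a : Fin (p + 1) → ι) :
    (∏ᶜ fun k => Y (a k)).left = ⨅ k, (Y (a k)).left := by
  apply le_antisymm
  · exact le_iInf fun k => leOfHom (Pi.π (fun k => Y (a k)) k).left
  · have hV : (⨅ k, (Y (a k)).left) ≤ U := (iInf_le _ 0).trans (leOfHom (Y (a 0)).hom)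
    let z : Over U := Over.mk (homOfLE hV)
    let l : z ⟶ ∏ᶜ fun k => Y (a k) :=
      Pi.lift fun k => Over.homMk (homOfLE (iInf_le (fun k => (Y (a k)).left) k))
        (Subsingleton.elim _ _)
    exact leOfHom l.left

variable [QuasiSeparatedSpace X]

lemma h1 (U : Opens X) (ι : Type u) (Y : ι → Over U) (h : Covc X U ι Y) :
    U ∈ Bc X ∧ Sieve.ofArrows (fun i => (Y i).left) (fun i => (Y i).hom) ∈
      Opens.grothendieckTopology X U ∧
      ∀ (p : ℕ) (a : Fin (p + 1) → ι), (∏ᶜ fun k => Y (a k)).left ∈ Bc X := by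
  obtain ⟨hfin, hU, hY, hcov⟩ := h
  refine ⟨hU, ?_, ?_⟩
  · intro x hx
    obtain ⟨i, hi⟩ := Set.mem_iUnion.1 (hcov hx)
    exact ⟨(Y i).left, (Y i).hom, Sieve.ofArrows_mk _ _ i, hi⟩
  · intro p a
    rw [prod_left_eq]
    change IsCompact ((⨅ k, (Y (a k)).left : Opens X) : Set X)
    rw [Opens.coe_iInf, ← Set.sInter_range]
    apply QuasiSeparatedSpace.isCompact_sInter_of_nonempty (Set.finite_range _)
      (Set.range_nonempty _)
    · rintro t ⟨k, rfl⟩
      exact Or.inl (Y (a k)).left.isOpen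
    · rintro t ⟨k, rfl⟩
      exact hY (a k)

variable [PrespectralSpace X]

lemma h2 (U : Opens X) (hU : U ∈ Bc X) (T : Sieve U) (hT : T ∈ Opens.grothendieckTopology X U) :
    ∃ (ι : Type u) (Y : ι → Over U), Covc X U ι Y ∧ ∀ i, T.arrows (Y i).hom := by
  -- for each point choose a compact open neighbourhood inside a member of the sieve
  have key : ∀ x : U, ∃ W : Opens X, IsCompact (W : Set X) ∧ (x : X) ∈ W ∧
      ∃ hW : W ≤ U, T.arrows (homOfLE hW) := by
    intro x
    obtain ⟨V, f, hf, hxV⟩ := hT x.1 x.2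
    obtain ⟨W, ⟨hWo, hWc⟩, hxW, hWV⟩ :=
      (PrespectralSpace.isTopologicalBasis (X := X)).exists_subset_of_mem_open hxV V.isOpen
    refine ⟨⟨W, hWo⟩, hWc, hxW, (show (⟨W, hWo⟩ : Opens X) ≤ V from hWV).trans (leOfHom f), ?_⟩
    have : homOfLE ((show (⟨W, hWo⟩ : Opens X) ≤ V from hWV).trans (leOfHom f)) =
        homOfLE (show (⟨W, hWo⟩ : Opens X) ≤ V from hWV) ≫ f := Subsingleton.elim _ _
    rw [this]
    exact T.downward_closed hf _
  choose W hWc hxW hWU hWT using key
  obtain ⟨t, ht⟩ := hU.elim_finite_subcover (fun x : U => (W x : Set X))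
    (fun x => (W x).isOpen) (fun x hx => Set.mem_iUnion.2 ⟨⟨x, hx⟩, hxW ⟨x, hx⟩⟩)
  refine ⟨t, fun i => Over.mk (homOfLE (hWU i.1)), ⟨inferInstance, hU, fun i => hWc i.1, ?_⟩,
    fun i => hWT i.1⟩
  intro x hx
  obtain ⟨i, hi⟩ := Set.mem_iUnion.1 (ht hx)
  obtain ⟨hit, hxi⟩ := Set.mem_iUnion.1 hi
  exact Set.mem_iUnion.2 ⟨⟨i, hit⟩, hxi⟩

theorem preservesColimitsOfShape (U : Opens X) (hU : IsCompact (U : Set X))
    (I : Type u) [SmallCategory I] [IsFiltered I] (q : ℕ) :
    PreservesColimitsOfShape I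
      ((Sheaf.cohomologyPresheafFunctor (Opens.grothendieckTopology X) q).flip.obj (op U)) :=
  ⟨fun {F} => preservesColimit (B := Bc X) (Cov := Covc X) h1 h2 (fun _ _ _ h => h.1) F U hU q⟩

end Groth.Agent.Lib.Helper22.ColimCoh.Top
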